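import Cfsg.Agent.Lib.Fusion.Basic
import Mathlib.GroupTheory.Sylow

/-!
# A translate of a fixed point of a Sylow subgroup

If a Sylow subgroup fixes `z` and `c`, and some element fixing `c` maps `z` to `c⁻¹ z`, then the
`p`-element `c` is trivial.
-/

set_option autoImplicit false

namespace CfsgLib.FusionHeis

open scoped Pointwise

variable {A : Type*} [Group A] {V : Type*} [Group V] {p : ℕ} [Fact p.Prime]

/-- Burnside's argument applied to `z` and its translate `c⁻¹ z`. -/
theorem eq_one_of_translate [Finite A] (act : A →* MulAut V) (T : Sylow p A) {z c : V}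
    (hV : ∃ k : ℕ, c ^ p ^ k = 1) (hTz : ∀ t ∈ (T : Subgroup A), act t z = z)
    (hTc : ∀ t ∈ (T : Subgroup A), act t c = c) {β : A} (hβc : act β c = c)
    (hβz : act β z = c⁻¹ * z) : c = 1 := by
  classical
  let H : Subgroup A :=
    { carrier := {a | act a c = c ∧ act a (c⁻¹ * z) = c⁻¹ * z}
      one_mem' := by simp
      mul_mem' := fun {a b} ha hb => by
        refine ⟨?_, ?_⟩
        · rw [map_mul act, MulAut.mul_apply, hb.1, ha.1]
        · rw [map_mul act, MulAut.mul_apply, hb.2, ha.2]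
      inv_mem' := fun {a} ha => by
        refine ⟨?_, ?_⟩
        · rw [map_inv]
          exact (MulEquiv.symm_apply_eq _).2 ha.1.symm
        · rw [map_inv]
          exact (MulEquiv.symm_apply_eq _).2 ha.2.symm }
  have hTH : (T : Subgroup A) ≤ H := fun t ht =>
    ⟨hTc t ht, by rw [map_mul, map_inv, hTc t ht, hTz t ht]⟩
  have hβinv : act β⁻¹ c = c := by
    rw [map_inv]
    exact (MulEquiv.symm_apply_eq _).2 hβc.symm
  have hβz' : act β⁻¹ (c⁻¹ * z) = z := by
    rw [map_inv]
    exact (MulEquiv.symm_apply_eq _).2 hβz.symm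
  have hconj : ∀ t ∈ (T : Subgroup A), β * t * β⁻¹ ∈ H := by
    intro t ht
    refine ⟨?_, ?_⟩
    · rw [map_mul act, map_mul act, MulAut.mul_apply, MulAut.mul_apply, hβinv, hTc t ht, hβc]
    · rw [map_mul act, map_mul act, MulAut.mul_apply, MulAut.mul_apply, hβz', hTz t ht, hβz]
  have hT2 : ((β • T : Sylow p A) : Subgroup A) ≤ H := by
    intro x hx
    rw [Sylow.coe_subgroup_smul, Subgroup.mem_pointwise_smul_iff_inv_smul_mem] at hx
    have h := hconj _ hx
    simpa [MulAut.smul_def, mul_assoc] using h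
  obtain ⟨γ, hγ⟩ := MulAction.exists_smul_eq H ((β • T).subtype hT2) (T.subtype hTH)
  rw [Sylow.smul_subtype] at hγ
  have hfix : ((γ : A) * β) • T = T := by
    rw [mul_smul]
    exact Sylow.subtype_injective hγ
  set h := (γ : A) * β with hh
  have hhc : act h c = c := by rw [hh, map_mul act, MulAut.mul_apply, hβc, γ.2.1]
  have hhz : act h z = c⁻¹ * z := by rw [hh, map_mul act, MulAut.mul_apply, hβz, γ.2.2]
  have hpow : ∀ i : ℕ, act (h ^ i) z = (c⁻¹) ^ i * z := by
    intro i
    induction i with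
    | zero => simp
    | succ i ih =>
      rw [pow_succ' h i, map_mul act, MulAut.mul_apply, ih, map_mul, map_pow, map_inv, hhc, hhz,
        ← mul_assoc, ← pow_succ]
  have hn : h ∈ Subgroup.normalizer ((T : Subgroup A) : Set A) :=
    Sylow.smul_eq_iff_mem_normalizer.1 hfix
  obtain ⟨m, hm, hhm⟩ : ∃ m : ℕ, ¬ p ∣ m ∧ h ^ m ∈ (T : Subgroup A) := by
    refine ⟨orderOf h / p ^ (orderOf h).factorization p,
      Nat.not_dvd_ordCompl Fact.out (orderOf_pos h).ne', ?_⟩
    set m := orderOf h / p ^ (orderOf h).factorization p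
    have hP : IsPGroup p (Subgroup.zpowers (h ^ m)) := by
      intro x
      refine ⟨(orderOf h).factorization p, Subtype.ext ?_⟩
      obtain ⟨j, hj⟩ := Subgroup.mem_zpowers_iff.1 x.2
      rw [SubmonoidClass.coe_pow, ← hj, ← zpow_natCast, ← zpow_mul, mul_comm, zpow_mul, zpow_natCast,
        ← pow_mul, mul_comm, Nat.ordProj_mul_ordCompl_eq_self, pow_orderOf_eq_one, one_zpow]
      rfl
    have h2 := (IsPGroup.inf_normalizer_sylow hP T).le
      ⟨Subgroup.mem_zpowers _, pow_mem hn m⟩
    exact h2.2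
  have h1 : (c⁻¹) ^ m = 1 := by
    have h3 := hpow m
    rw [hTz _ hhm] at h3
    exact (mul_eq_right.1 h3.symm)
  obtain ⟨k, hk⟩ := hV
  have hd1 : orderOf c ∣ m := orderOf_dvd_of_pow_eq_one (by simpa using h1)
  have hd2 : orderOf c ∣ p ^ k := orderOf_dvd_of_pow_eq_one hk
  exact orderOf_eq_one_iff.1 (Nat.eq_one_of_dvd_coprimes
    (((Fact.out : p.Prime).coprime_iff_not_dvd.2 hm).symm.pow_right k) hd1 hd2)

end CfsgLib.FusionHeis
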