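import Cfsg.Agent.Lib.FusionHeis.Burnside
import Cfsg.Agent.Lib.Fusion.Normal
import Cfsg.Agent.Lib.FusionQuot.Joins
import Cfsg.Agent.Lib.FusionMetacyclic.OddNormal

/-!
# Fusion systems on Heisenberg-like groups with a nontrivial normal subgroup are constrained

`IsHeis S`: commutators are central, `y ↦ [x, y]` is onto `Z(S)` for every noncentral `x`, and
centralizers of noncentral elements are abelian.
-/

set_option autoImplicit false

namespace CfsgLib.FusionHeis

open Cfsg Cfsg.FusionSystem CfsgLib.Fusion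

variable {Ω : Type*} [Group Ω] {S : Subgroup Ω} {F : Cfsg.FusionSystem S}
variable {E : Subgroup Ω} {p : ℕ}

/-- The shape of a Sylow `p`-subgroup of `SL₃(q)`. -/
structure IsHeis (S : Subgroup Ω) : Prop where
  /-- commutators are central -/
  comm_mem : ∀ x ∈ S, ∀ y ∈ S, x * y * x⁻¹ * y⁻¹ ∈ Subgroup.centralizer (S : Set Ω)
  /-- commutation with a noncentral element is onto the centre -/
  comm_surj : ∀ x ∈ S, x ∉ Subgroup.centralizer (S : Set Ω) →
    ∀ z ∈ S, z ∈ Subgroup.centralizer (S : Set Ω) → ∃ y ∈ S, x * y * x⁻¹ * y⁻¹ = z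
  /-- centralizers of noncentral elements are abelian -/
  cent_comm : ∀ x ∈ S, x ∉ Subgroup.centralizer (S : Set Ω) →
    ∀ a ∈ S, ∀ b ∈ S, a * x = x * a → b * x = x * b → a * b = b * a

theorem IsHeis.comm_center (hH : IsHeis S) {x y : Ω} (hx : x ∈ S) (hy : y ∈ S) :
    x * y * x⁻¹ * y⁻¹ ∈ S ⊓ Subgroup.centralizer (S : Set Ω) :=
  ⟨S.mul_mem (S.mul_mem (S.mul_mem hx hy) (S.inv_mem hx)) (S.inv_mem hy), hH.comm_mem x hx y hy⟩

/-- An essential subgroup is proper. -/
theorem essential_ne_top [Finite S] [Fact p.Prime] (hS : IsPGroup p S) (hF : F.IsSaturated p)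
    (hE : F.IsEssential p E) : E ≠ S := by
  rintro rfl
  obtain ⟨-, hfn, hn, M, hdvd, -⟩ := hE
  obtain ⟨-, T, hT⟩ := isFullyAutomized_of_isFullyNormalized hS hF hfn
  have : Finite (MulAut E) := finite_mulAut
  have hle : (T : Subgroup (F.autGroup E)) ≤ (Cfsg.Inn E).subgroupOf (F.autGroup E) := by
    rw [hT]
    intro α hα
    obtain ⟨g, hg, hx⟩ := mem_autInducedBy_iff.1 (Subgroup.mem_subgroupOf.1 hα)
    exact ⟨⟨g, hg⟩, MulEquiv.ext fun x => Subtype.ext (hx x).symm⟩
  refine T.not_dvd_index ((hdvd.trans ?_).trans (Subgroup.index_dvd_of_le hle))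
  first
    | exact Subgroup.card_subgroup_dvd_card _
    | exact dvd_rfl

/-- An essential subgroup has no invariant central series of length two stabilised by `S`. -/
theorem false_of_stab [Finite S] [Fact p.Prime] (hS : IsPGroup p S) (hF : F.IsSaturated p)
    (hE : F.IsEssential p E) {U : Subgroup Ω} (hU : U ≤ E)
    (hUc : ∀ u ∈ U, ∀ e ∈ E, u * e = e * u)
    (hinv : ∀ α ∈ F.autGroup E, ∀ x : E, (x : Ω) ∈ U → ((α x : E) : Ω) ∈ U)
    (h1 : ∀ g ∈ S, ∀ e ∈ E, g * e * g⁻¹ * e⁻¹ ∈ U) (h2 : ∀ g ∈ S, ∀ u ∈ U, g * u = u * g) :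
    False := by
  classical
  have hES : E ≤ S := hE.1.1
  have : Finite E := finite_of_le hES
  have : Finite (MulAut E) := finite_mulAut
  have hnorm : ∀ g ∈ S, g ∈ Subgroup.normalizer (E : Set Ω) := by
    intro g hg
    have key : ∀ s ∈ S, ∀ e ∈ E, s * e * s⁻¹ ∈ E := by
      intro s hs e he
      have := mul_mem (hU (h1 s hs e he)) he
      simpa using this
    rw [Subgroup.mem_normalizer_iff]
    refine fun e => ⟨fun he => key g hg e he, fun he => ?_⟩
    have := key g⁻¹ (inv_mem hg) _ he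
    simpa [mul_assoc] using this
  let K : Subgroup (F.autGroup E) :=
    { carrier := {α | (∀ e : E, (((α : MulAut E) e : E) : Ω) * (e : Ω)⁻¹ ∈ U) ∧
        ∀ e : E, (e : Ω) ∈ U → (α : MulAut E) e = e}
      one_mem' := by simp
      mul_mem' := fun {a b} ha hb => by
        refine ⟨fun e => ?_, fun e he => ?_⟩
        · have h := mul_mem (ha.1 ((b : MulAut E) e)) (hb.1 e)
          simpa [mul_assoc] using h
        · show (a : MulAut E) ((b : MulAut E) e) = e
          rw [hb.2 e he, ha.2 e he]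
      inv_mem' := fun {a} ha => by
        refine ⟨fun e => ?_, fun e he => ?_⟩
        · have h := inv_mem (ha.1 ((a : MulAut E).symm e))
          simpa [mul_assoc] using h
        · show (a : MulAut E).symm e = e
          exact (MulEquiv.symm_apply_eq _).2 (ha.2 e he).symm }
  have hKn : K.Normal := by
    refine ⟨fun a ha b => ⟨fun e => ?_, fun e he => ?_⟩⟩
    · set d : E := (b : MulAut E).symm e
      have h3 := hinv b b.2 ((a : MulAut E) d * d⁻¹) (by simpa using ha.1 d)
      simpa [map_mul, map_inv, d] using h3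
    · show (b : MulAut E) ((a : MulAut E) ((b : MulAut E).symm e)) = e
      rw [show (a : MulAut E) ((b : MulAut E).symm e) = (b : MulAut E).symm e from
        ha.2 _ (hinv ((b : MulAut E)⁻¹) (inv_mem b.2) e he)]
      exact (b : MulAut E).apply_symm_apply e
  have hKp : IsPGroup p K := by
    intro a
    obtain ⟨n, hn⟩ := IsPGroup.iff_card.1 (hS.to_le hES)
    refine ⟨n, Subtype.ext (Subtype.ext (MulEquiv.ext fun e => ?_))⟩
    set α : MulAut E := ((a : F.autGroup E) : MulAut E) with hα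
    set d : E := α e * e⁻¹ with hd
    have hdU : (d : Ω) ∈ U := a.2.1 e
    have hαd : α d = d := a.2.2 d hdU
    have hpow : ∀ i : ℕ, (α ^ i) e = d ^ i * e := by
      intro i
      induction i with
      | zero => simp
      | succ i ih =>
        rw [pow_succ', MulAut.mul_apply, ih, map_mul, map_pow, hαd, pow_succ, mul_assoc, hd,
          inv_mul_cancel_right]
    show (α ^ p ^ n) e = e
    rw [hpow, ← hn, pow_card_eq_one', one_mul]
  have hall : ∀ g ∈ S, g ∈ E := by
    intro g hg
    refine mem_of_conjAut_mem_inn (centralizerIn_le_of_isCentric hE.1) hES hg (hnorm g hg) ?_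
    rw [← (isRadical_of_isEssential hS hF hE).2]
    have hmem : conjAut E g (hnorm g hg) ∈ F.autGroup E :=
      autInducedBy_le_autGroup F hES (conjAut_mem_autInducedBy hg _)
    refine ⟨⟨_, hmem⟩, CfsgLib.Solvable.le_pCore hKn hKp ⟨fun e => h1 g hg e e.2, fun e he =>
      Subtype.ext ?_⟩, rfl⟩
    show g * (e : Ω) * g⁻¹ = e
    rw [h2 g hg e he, mul_inv_cancel_right]
  exact essential_ne_top hS hF hE (le_antisymm hES hall)

/-- The centre of `S` lies in every centric subgroup. -/
theorem center_le (hEc : F.IsCentric E) :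
    S ⊓ Subgroup.centralizer (S : Set Ω) ≤ E := fun x hx =>
  centralizerIn_le_of_isCentric hEc
    ⟨hx.1, Subgroup.centralizer_le (SetLike.coe_subset_coe.2 hEc.1) hx.2⟩

/-- An essential subgroup of a Heisenberg-like group is abelian and not central. -/
theorem essential_comm [Finite S] [Fact p.Prime] (hS : IsPGroup p S) (hF : F.IsSaturated p)
    (hH : IsHeis S) (hE : F.IsEssential p E) : ∀ a ∈ E, ∀ b ∈ E, a * b = b * a := by
  by_contra hab
  push Not at hab
  obtain ⟨a, ha, b, hb, hne⟩ := hab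
  have hES : E ≤ S := hE.1.1
  have hUeq : E ⊓ Subgroup.centralizer (E : Set Ω) = S ⊓ Subgroup.centralizer (S : Set Ω) := by
    refine le_antisymm ?_ fun x hx =>
      ⟨center_le hE.1 hx, Subgroup.centralizer_le (SetLike.coe_subset_coe.2 hES) hx.2⟩
    rintro x ⟨hxE, hxc⟩
    refine ⟨hES hxE, ?_⟩
    by_contra hx
    exact hne (hH.cent_comm x (hES hxE) hx a (hES ha) b (hES hb)
      (Subgroup.mem_centralizer_iff.1 hxc a ha) (Subgroup.mem_centralizer_iff.1 hxc b hb))
  refine false_of_stab hS hF hE (U := S ⊓ Subgroup.centralizer (S : Set Ω)) (center_le hE.1)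
    (fun u hu e he => (Subgroup.mem_centralizer_iff.1 hu.2 e (hES he)).symm) ?_
    (fun g hg e he => hH.comm_center hg (hES he))
    (fun g hg u hu => Subgroup.mem_centralizer_iff.1 hu.2 g hg)
  intro α hα x hx
  rw [← hUeq] at hx ⊢
  refine ⟨(α x).2, Subgroup.mem_centralizer_iff.2 fun y hy => ?_⟩
  have h := congrArg (fun t : E => ((α t : E) : Ω))
    (show (α.symm ⟨y, hy⟩ : E) * x = x * α.symm ⟨y, hy⟩ from
      Subtype.ext (Subgroup.mem_centralizer_iff.1 hx.2 _ (α.symm ⟨y, hy⟩).2))
  simpa using h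

/-- An essential subgroup is the centralizer of each of its noncentral elements. -/
theorem essential_eq [Finite S] [Fact p.Prime] (hS : IsPGroup p S) (hF : F.IsSaturated p)
    (hH : IsHeis S) (hE : F.IsEssential p E) {x : Ω} (hxE : x ∈ E)
    (hx : x ∉ Subgroup.centralizer (S : Set Ω)) :
    E = S ⊓ Subgroup.centralizer ({x} : Set Ω) := by
  have hES : E ≤ S := hE.1.1
  have hcomm := essential_comm hS hF hH hE
  apply le_antisymm
  · intro e he
    refine ⟨hES he, ?_⟩
    exact Subgroup.mem_centralizer_singleton_iff.2 (hcomm e he x hxE)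
  · intro a ha
    refine centralizerIn_le_of_isCentric hE.1 ⟨ha.1, Subgroup.mem_centralizer_iff.2 fun e he => ?_⟩
    exact hH.cent_comm x (hES hxE) hx e (hES he) a ha.1 (hcomm e he x hxE)
      (Subgroup.mem_centralizer_singleton_iff.1 ha.2)

/-- A normal subgroup inside the centre rules out essential subgroups. -/
theorem false_of_central [Finite S] [Fact p.Prime] (hS : IsPGroup p S) (hF : F.IsSaturated p)
    (hH : IsHeis S) (hE : F.IsEssential p E) {Q : Subgroup Ω} (hQ : F.StronglyClosed Q)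
    (hQZ : Q ≤ Subgroup.centralizer (S : Set Ω)) (hQ1 : Q ≠ ⊥) : False := by
  classical
  obtain ⟨c, hc, hc1⟩ := (Q.bot_or_exists_ne_one).resolve_left hQ1
  have hES : E ≤ S := hE.1.1
  have : Finite E := finite_of_le hES
  have : Finite (MulAut E) := finite_mulAut
  have hcomm := essential_comm hS hF hH hE
  have hQE : ∀ q ∈ Q, q ∈ E := fun q hq => center_le hE.1 ⟨hQ.1 hq, hQZ hq⟩
  have hQinv : ∀ α ∈ F.autGroup E, ∀ x : E, (x : Ω) ∈ Q → ((α x : E) : Ω) ∈ Q := fun α hα x hx =>
    stronglyClosed_apply_mem hQ ((mem_autGroup_iff_hom hES).1 hα) x hx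
  refine false_of_stab hS hF hE (U := S ⊓ Subgroup.centralizer (S : Set Ω)) (center_le hE.1)
    (fun u hu e he => (Subgroup.mem_centralizer_iff.1 hu.2 e (hES he)).symm) ?_
    (fun g hg e he => hH.comm_center hg (hES he))
    (fun g hg u hu => Subgroup.mem_centralizer_iff.1 hu.2 g hg)
  intro α hα z hz
  refine ⟨hES (α z).2, ?_⟩
  by_contra hv
  obtain ⟨y, hy, hyc⟩ := hH.comm_surj _ (hES (α z).2) hv c (hQ.1 hc) (hQZ hc)
  have hyN : y ∈ Subgroup.normalizer (E : Set Ω) := by
    have key : ∀ s ∈ S, ∀ e ∈ E, s * e * s⁻¹ ∈ E := by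
      intro s hs e he
      have := mul_mem (center_le hE.1 (hH.comm_center hs (hES he))) he
      simpa using this
    rw [Subgroup.mem_normalizer_iff]
    refine fun e => ⟨fun he => key y hy e he, fun he => ?_⟩
    have := key y⁻¹ (inv_mem hy) _ he
    simpa [mul_assoc] using this
  obtain ⟨-, T, hT⟩ := isFullyAutomized_of_isFullyNormalized hS hF hE.2.1
  have hτ : conjAut E y hyN ∈ F.autGroup E :=
    autInducedBy_le_autGroup F hES (conjAut_mem_autInducedBy hy _)
  set β : F.autGroup E := ⟨α, hα⟩⁻¹ * ⟨_, hτ⟩ * ⟨α, hα⟩ with hβ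
  set c' : E := α.symm ⟨c, hQE c hc⟩ with hc'
  have hc'Q : (c' : Ω) ∈ Q := hQinv α⁻¹ (inv_mem hα) ⟨c, hQE c hc⟩ hc
  have hfixT : ∀ t ∈ (T : Subgroup (F.autGroup E)), ∀ u : E,
      (u : Ω) ∈ Subgroup.centralizer (S : Set Ω) → ((t : MulAut E) u) = u := by
    intro t ht u hu
    rw [hT] at ht
    obtain ⟨g, hg, hgx⟩ := mem_autInducedBy_iff.1 (Subgroup.mem_subgroupOf.1 ht)
    refine Subtype.ext ((hgx u).trans ?_)
    rw [Subgroup.mem_centralizer_iff.1 hu g hg, mul_inv_cancel_right]
  have hτc : conjAut E y hyN ⟨c, hQE c hc⟩ = ⟨c, hQE c hc⟩ := by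
    refine Subtype.ext ?_
    show y * c * y⁻¹ = c
    rw [Subgroup.mem_centralizer_iff.1 (hQZ hc) y hy, mul_inv_cancel_right]
  have hτv : conjAut E y hyN (α z) = ⟨c, hQE c hc⟩⁻¹ * α z := by
    refine Subtype.ext ?_
    show y * ((α z : E) : Ω) * y⁻¹ = c⁻¹ * ((α z : E) : Ω)
    rw [eq_inv_mul_iff_mul_eq, ← hyc]
    group
  have hone : c' = 1 := by
    refine eq_one_of_translate (F.autGroup E).subtype T (z := z) ?_
      (fun t ht => hfixT t ht z hz.2) (fun t ht => hfixT t ht c' (hQZ hc'Q)) (β := β) ?_ ?_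
    · exact (hS.to_le hES) c'
    · show α.symm (conjAut E y hyN (α c')) = c'
      rw [hc', MulEquiv.apply_symm_apply, hτc]
    · show α.symm (conjAut E y hyN (α z)) = c'⁻¹ * z
      rw [hτv, map_mul, map_inv, MulEquiv.symm_apply_apply]
  rw [hc', MulEquiv.map_eq_one_iff] at hone
  exact hc1 (congrArg Subtype.val hone)

/-- A fusion system on a Heisenberg-like group with a nontrivial core is constrained. -/
theorem isConstrained_of_core_ne_bot [Finite S] [Fact p.Prime] (hS : IsPGroup p S)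
    (hF : F.IsSaturated p) (hH : IsHeis S) (hQ1 : F.core ≠ ⊥) : F.IsConstrained p := by
  have hQ := CfsgLib.FusionQuot.isNormal_core F
  have hQc := isNormal_stronglyClosed hQ
  by_cases hne : ∃ E, F.IsEssential p E
  · obtain ⟨E₀, hE₀⟩ := hne
    have hQE : ∀ E, F.IsEssential p E → F.core ≤ E := fun E hE =>
      isNormal_le_of_centric_radical hS hQ hE.1 (isRadical_of_isEssential hS hF hE)
    by_cases hQZ : F.core ≤ Subgroup.centralizer (S : Set Ω)
    · exact (false_of_central hS hF hH hE₀ hQc hQZ hQ1).elim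
    obtain ⟨x, hxQ, hx⟩ := SetLike.not_le_iff_exists.1 hQZ
    have huniq : ∀ E, F.IsEssential p E → ∀ y ∈ F.core,
        y ∉ Subgroup.centralizer (S : Set Ω) → E = S ⊓ Subgroup.centralizer ({y} : Set Ω) :=
      fun E hE y hy hyn => essential_eq hS hF hH hE (hQE E hE hy) hyn
    refine ⟨hF, E₀, (isNormal_iff_essential hS hF).2 fun P hP => ?_, hE₀.1⟩
    rcases hP with rfl | hP
    · refine ⟨hE₀.1.1, fun α hα => ?_⟩
      have : Finite (MulAut P) := finite_mulAut
      have hxS : x ∈ P := hQc.1 hxQ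
      have hyQ : ((α ⟨x, hxS⟩ : P) : Ω) ∈ F.core :=
        stronglyClosed_apply_mem hQc ((mem_autGroup_iff_hom le_rfl).1 hα) _ hxQ
      have hyn : ((α ⟨x, hxS⟩ : P) : Ω) ∉ Subgroup.centralizer (P : Set Ω) := by
        intro h
        refine hx (Subgroup.mem_centralizer_iff.2 fun g hg => ?_)
        have h' := congrArg (fun t : P => ((α.symm t : P) : Ω))
          (show α ⟨g, hg⟩ * α ⟨x, hxS⟩ = α ⟨x, hxS⟩ * α ⟨g, hg⟩ from
            Subtype.ext (Subgroup.mem_centralizer_iff.1 h _ (α ⟨g, hg⟩).2))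
        simpa using h'
      ext u
      have key : ∀ w : P, (w : Ω) ∈ E₀ ↔ (((α w : P) : Ω)) ∈ E₀ := by
        intro w
        constructor
        · intro hw
          rw [huniq E₀ hE₀ _ hyQ hyn]
          rw [huniq E₀ hE₀ x hxQ hx] at hw
          refine ⟨(α w).2, Subgroup.mem_centralizer_singleton_iff.2 ?_⟩
          have h' := congrArg (fun t : P => ((α t : P) : Ω))
            (show w * ⟨x, hxS⟩ = ⟨x, hxS⟩ * w from
              Subtype.ext (Subgroup.mem_centralizer_singleton_iff.1 hw.2))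
          simpa using h'
        · intro hw
          rw [huniq E₀ hE₀ x hxQ hx]
          rw [huniq E₀ hE₀ _ hyQ hyn] at hw
          refine ⟨w.2, Subgroup.mem_centralizer_singleton_iff.2 ?_⟩
          have h' := congrArg (fun t : P => ((α.symm t : P) : Ω))
            (show α w * α ⟨x, hxS⟩ = α ⟨x, hxS⟩ * α w from
              Subtype.ext (Subgroup.mem_centralizer_singleton_iff.1 hw.2))
          simpa using h'
      constructor
      · rintro ⟨w, hw, rfl⟩
        exact (key w).1 hw
      · intro hu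
        exact ⟨α.symm u, (key _).2 (by rw [MulEquiv.apply_symm_apply]; exact hu),
          MulEquiv.apply_symm_apply α u⟩
    · have hEE : P = E₀ := by rw [huniq P hP x hxQ hx, huniq E₀ hE₀ x hxQ hx]
      subst hEE
      exact ⟨le_rfl, fun α _ => by
        rw [Subgroup.subgroupOf_self, Subgroup.map_top_of_surjective _ α.surjective]⟩
  · push Not at hne
    exact ⟨hF, S, CfsgLib.FusionMetacyclic.isNormal_of_le_essential hS hF
      ⟨le_rfl, fun P _ φ hφ x => map_mem hφ x⟩ (fun E hE => (hne E hE).elim), isCentric_top F⟩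

end CfsgLib.FusionHeis
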