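import Cfsg.Agent.Lib.FusionHeis.Core
import Cfsg.Agent.Lib.SylowL3.Basic
import Cfsg.Agent.Lib.AutPSL.Root

/-!
# Sylow `p`-subgroups of `SL₃(q)` in the defining characteristic are Heisenberg-like
-/

set_option autoImplicit false

namespace CfsgLib.FusionHeis

open Matrix CfsgLib.AutPSL CfsgLib.SylowL3

/-- The property transfers along isomorphisms. -/
theorem isHeis_of_equiv {Ω G : Type*} [Group Ω] [Group G] {S : Subgroup Ω} {U : Subgroup G}
    (e : ↥U ≃* ↥S) (h : IsHeis U) : IsHeis S := by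
  have hcen : ∀ u : U, (e u : Ω) ∈ Subgroup.centralizer (S : Set Ω) ↔
      (u : G) ∈ Subgroup.centralizer (U : Set G) := by
    intro u
    constructor
    · intro hu
      refine Subgroup.mem_centralizer_iff.2 fun g hg => ?_
      have h1 : e ⟨g, hg⟩ * e u = e u * e ⟨g, hg⟩ :=
        Subtype.ext (Subgroup.mem_centralizer_iff.1 hu _ (e ⟨g, hg⟩).2)
      rw [← map_mul, ← map_mul, e.apply_eq_iff_eq] at h1
      exact congrArg Subtype.val h1
    · intro hu
      refine Subgroup.mem_centralizer_iff.2 fun g hg => ?_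
      have h1 : e.symm ⟨g, hg⟩ * u = u * e.symm ⟨g, hg⟩ :=
        Subtype.ext (Subgroup.mem_centralizer_iff.1 hu _ (e.symm ⟨g, hg⟩).2)
      have h2 := congrArg (fun t : U => ((e t : S) : Ω)) h1
      simpa using h2
  have hcomm : ∀ a b : U, ((e a : S) : Ω) * e b * ((e a : S) : Ω)⁻¹ * ((e b : S) : Ω)⁻¹ =
      e (a * b * a⁻¹ * b⁻¹) := fun a b => by simp
  refine ⟨?_, ?_, ?_⟩
  · intro x hx y hy
    obtain ⟨a, ha⟩ := e.surjective ⟨x, hx⟩
    obtain ⟨b, hb⟩ := e.surjective ⟨y, hy⟩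
    rw [show x = e a by rw [ha], show y = e b by rw [hb], hcomm, hcen]
    exact h.comm_mem a a.2 b b.2
  · intro x hx hxn z hz hzc
    obtain ⟨a, ha⟩ := e.surjective ⟨x, hx⟩
    obtain ⟨c, hc⟩ := e.surjective ⟨z, hz⟩
    have hx' : x = e a := by rw [ha]
    have hz' : z = e c := by rw [hc]
    rw [hx', hcen] at hxn
    rw [hz', hcen] at hzc
    obtain ⟨b, hb, hbz⟩ := h.comm_surj a a.2 hxn c c.2 hzc
    refine ⟨e ⟨b, hb⟩, (e ⟨b, hb⟩).2, ?_⟩
    rw [hx', hz', hcomm]
    exact congrArg (fun t : U => ((e t : S) : Ω)) (Subtype.ext hbz)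
  · intro x hx hxn a ha b hb hax hbx
    obtain ⟨x', hx'⟩ := e.surjective ⟨x, hx⟩
    obtain ⟨a', ha'⟩ := e.surjective ⟨a, ha⟩
    obtain ⟨b', hb'⟩ := e.surjective ⟨b, hb⟩
    have hxe : x = e x' := by rw [hx']
    have hae : a = e a' := by rw [ha']
    have hbe : b = e b' := by rw [hb']
    rw [hxe, hcen] at hxn
    have key : ∀ u v : U, ((e u : S) : Ω) * e v = ((e v : S) : Ω) * e u ↔ (u : G) * v = v * u := by
      intro u v
      rw [← Subgroup.coe_mul, ← Subgroup.coe_mul, ← map_mul, ← map_mul, Subtype.coe_inj,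
        e.apply_eq_iff_eq, ← Subtype.coe_inj, Subgroup.coe_mul, Subgroup.coe_mul]
    rw [hxe, hae, key] at hax
    rw [hxe, hbe, key] at hbx
    rw [hae, hbe, key]
    exact h.cent_comm x' x'.2 hxn a' a'.2 b' b'.2 hax hbx

variable {K : Type*} [Field K] [Fintype K]

theorem tri_injective : Function.Injective (tri : K × K × K → SpecialLinearGroup (Fin 3) K) := by
  intro a b hab
  have h := congrArg (fun m : SpecialLinearGroup (Fin 3) K => (m : Matrix (Fin 3) (Fin 3) K)) hab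
  simp only [coe_tri] at h
  have e01 := congrFun (congrFun h 0) 1
  have e02 := congrFun (congrFun h 0) 2
  have e12 := congrFun (congrFun h 1) 2
  simp at e01 e02 e12
  exact Prod.ext e01 (Prod.ext e12 e02)

theorem tri_mem (a : K × K × K) : tri a ∈ uniTri 3 K := by
  refine mem_uniTri.2 ⟨fun i j hij => ?_, fun i => ?_⟩
  · rw [coe_tri]
    fin_cases i <;> fin_cases j <;> simp at hij ⊢
  · rw [coe_tri]
    fin_cases i <;> simp

theorem exists_tri {s : SLg 3 K} (hs : s ∈ uniTri 3 K) : ∃ a, tri a = s := by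
  obtain ⟨hU, hd⟩ := mem_uniTri.1 hs
  refine ⟨(s.1 0 1, s.1 1 2, s.1 0 2), Subtype.ext ?_⟩
  show _ = s.1
  ext i j
  have u10 : s.1 1 0 = 0 := hU (show id (0 : Fin 3) < id 1 by decide)
  have u20 : s.1 2 0 = 0 := hU (show id (0 : Fin 3) < id 2 by decide)
  have u21 : s.1 2 1 = 0 := hU (show id (1 : Fin 3) < id 2 by decide)
  fin_cases i <;> fin_cases j <;> simp [coe_tri, hd, u10, u20, u21]

theorem tri_commute_iff (a b : K × K × K) :
    tri a * tri b = tri b * tri a ↔ a.1 * b.2.1 = b.1 * a.2.1 := by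
  rw [tri_mul, tri_mul, tri_injective.eq_iff]
  simp only [Prod.ext_iff, add_comm a.1, add_comm a.2.1, add_comm a.2.2, true_and, add_right_inj]

theorem tri_mem_centralizer_iff (a : K × K × K) :
    tri a ∈ Subgroup.centralizer (uniTri 3 K : Set (SLg 3 K)) ↔ a.1 = 0 ∧ a.2.1 = 0 := by
  rw [Subgroup.mem_centralizer_iff]
  constructor
  · intro h
    have h1 := (tri_commute_iff (1, 0, 0) a).1 (h _ (tri_mem _))
    have h2 := (tri_commute_iff (0, 1, 0) a).1 (h _ (tri_mem _))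
    simp at h1 h2
    exact ⟨h2.symm, h1⟩
  · rintro ⟨h1, h2⟩ g hg
    obtain ⟨b, rfl⟩ := exists_tri hg
    rw [tri_commute_iff, h1, h2, mul_zero, zero_mul]

omit [Fintype K] in
theorem tri_comm (a b : K × K × K) :
    tri a * tri b * (tri a)⁻¹ * (tri b)⁻¹ = tri (0, 0, a.1 * b.2.1 - b.1 * a.2.1) := by
  rw [mul_inv_eq_iff_eq_mul, mul_inv_eq_iff_eq_mul, tri_mul, tri_mul, tri_mul]
  congr 1
  simp only [Prod.ext_iff, zero_add, zero_mul, add_zero]
  refine ⟨add_comm _ _, add_comm _ _, ?_⟩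
  ring

/-- The unitriangular group of degree three is Heisenberg-like. -/
theorem isHeis_uniTri : IsHeis (uniTri 3 K) := by
  refine ⟨?_, ?_, ?_⟩
  · intro x hx y hy
    obtain ⟨a, rfl⟩ := exists_tri hx
    obtain ⟨b, rfl⟩ := exists_tri hy
    rw [tri_comm, tri_mem_centralizer_iff]
    exact ⟨rfl, rfl⟩
  · intro x hx hxn z hz hzc
    obtain ⟨a, rfl⟩ := exists_tri hx
    obtain ⟨c, rfl⟩ := exists_tri hz
    rw [tri_mem_centralizer_iff] at hxn hzc
    obtain ⟨c1, c2, c3⟩ := c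
    obtain ⟨rfl, rfl⟩ := hzc
    by_cases h : a.1 = 0
    · have h2 : a.2.1 ≠ 0 := fun h2 => hxn ⟨h, h2⟩
      refine ⟨tri (-c3 / a.2.1, 0, 0), tri_mem _, ?_⟩
      rw [tri_comm]
      congr 3
      simp [h2]
    · refine ⟨tri (0, c3 / a.1, 0), tri_mem _, ?_⟩
      rw [tri_comm]
      congr 3
      simp [mul_div_cancel₀, h]
  · intro x hx hxn a ha b hb hax hbx
    obtain ⟨x, rfl⟩ := exists_tri hx
    obtain ⟨a, rfl⟩ := exists_tri ha
    obtain ⟨b, rfl⟩ := exists_tri hb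
    rw [tri_mem_centralizer_iff] at hxn
    rw [tri_commute_iff] at hax hbx ⊢
    by_cases h : x.1 = 0
    · have h2 : x.2.1 ≠ 0 := fun h2 => hxn ⟨h, h2⟩
      rw [h, zero_mul] at hax hbx
      rw [(mul_eq_zero.1 hax).resolve_right h2, (mul_eq_zero.1 hbx).resolve_right h2]
      ring
    · apply mul_left_cancel₀ h
      linear_combination a.1 * (-hbx) + b.1 * hax

/-- A Sylow `p`-subgroup of `SL₃(q)` is isomorphic to the unitriangular group. -/
theorem exists_equiv_uniTri (p : ℕ) [Fact p.Prime] [CharP K p] (T : Sylow p (SLg 3 K)) :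
    Nonempty (↥(uniTri 3 K) ≃* ↥(T : Subgroup (SLg 3 K))) := by
  have hidx : ¬ p ∣ (uniTri 3 K).index := by
    have hp : p.Prime := Fact.out
    have h1 : Nat.card (SLg 3 K) ∣ Nat.card (GL (Fin 3) K) :=
      Subgroup.card_dvd_of_injective (SpecialLinearGroup.toGL (n := Fin 3) (R := K))
        SpecialLinearGroup.toGL_injective
    rw [← Subgroup.card_mul_index (uniTri 3 K), card_GL_eq_uniTri_mul] at h1
    have h2 := Nat.dvd_of_mul_dvd_mul_left Nat.card_pos h1
    intro hdvd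
    obtain ⟨j, _, hj⟩ := (Prime.dvd_finset_prod_iff hp.prime _).mp (hdvd.trans h2)
    have hq : p ∣ Fintype.card K ^ (3 - (j : ℕ)) := by
      obtain ⟨f, _, hf⟩ := FiniteField.card K p
      rw [hf, ← pow_mul]
      exact dvd_pow_self p (Nat.mul_ne_zero f.pos.ne' (by omega))
    have hle : 1 ≤ Fintype.card K ^ (3 - (j : ℕ)) := Nat.one_le_pow _ _ Fintype.card_pos
    have := Nat.dvd_sub hq hj
    rw [Nat.sub_sub_self hle] at this
    exact hp.one_lt.ne' (Nat.dvd_one.mp this)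
  exact ⟨Sylow.equiv ((isPGroup_uniTri (F := K) (n := 3) p).toSylow hidx) T⟩

end CfsgLib.FusionHeis
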